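import Groth.Agent.GrTwistLib.Basic
import Groth.Agent.AmpleThLib.Ample

/-!
# The twisting sheaves `O(d)` are ample when finitely many elements of degree `d` cover
-/

set_option autoImplicit false
universe u
open CategoryTheory CategoryTheory.Limits AlgebraicGeometry TopologicalSpace Opposite TopCat

noncomputable section

namespace GrTwistLib

variable {A σ : Type u} [CommRing A] [SetLike σ A] [AddSubgroupClass σ A] (𝒜 : ℕ → σ) [GradedRing 𝒜]

/-- the unit `f^m` on `D₊(f)` -/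
def powUnit {d : ℕ} {f : A} (hf : f ∈ 𝒜 d) (m : ℤ) : Unit' 𝒜 (m * d) (Proj.basicOpen 𝒜 f) :=
  Unit'.ofPow hf SetLike.GradedOne.one_mem (zero_add d).symm (fun x => x.2)
    (fun x h => x.1.isPrime.ne_top ((Ideal.eq_top_iff_one _).mpr h)) m

theorem twist_isInvertible_deg {d : ℕ} (hcov : ∀ x : Proj 𝒜, ∃ f ∈ 𝒜 d, x ∈ Proj.basicOpen 𝒜 f) (m : ℤ) :
    PicF.IsInvertible (GrTwist.twist 𝒜 (m * d)) := by
  choose f hf hx using hcov
  exact isInvertible_of_genOn (fun x => Proj.basicOpen 𝒜 (f x)) (fun x => ⟨x, hx x⟩)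
    (fun x => (powUnit 𝒜 (hf x) m).sec) (fun x => Unit'.genOn _)

theorem twist_isInvertible_self {d : ℕ} (hcov : ∀ x : Proj 𝒜, ∃ f ∈ 𝒜 d, x ∈ Proj.basicOpen 𝒜 f) :
    PicF.IsInvertible (GrTwist.twist 𝒜 (d : ℤ)) := by
  have h : (1 : ℤ) * (d : ℤ) = d := one_mul _
  exact h ▸ twist_isInvertible_deg 𝒜 hcov 1

theorem genSet_globalOf {d : ℕ} (hL : PicF.IsInvertible (GrTwist.twist 𝒜 (d : ℤ)))
    (hcov : ∀ x : Proj 𝒜, ∃ f ∈ 𝒜 d, x ∈ Proj.basicOpen 𝒜 f) (a : 𝒜 d) :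
    TwistLib.genSet hL (show Γ(GrTwist.twist 𝒜 (d : ℤ), ⊤) from GrTwist.globalOf 𝒜 a) =
      Proj.basicOpen 𝒜 (a : A) := by
  ext x
  obtain ⟨f, hf, hx⟩ := hcov x
  let g : Unit' 𝒜 (d : ℤ) (Proj.basicOpen 𝒜 f) :=
    ⟨d, 0, f, 1, hf, SetLike.GradedOne.one_mem, by simp, fun y => y.2,
      fun y h => y.1.isPrime.ne_top ((Ideal.eq_top_iff_one _).mpr h)⟩
  exact genAt_globalOf 𝒜 a g hx

theorem twist_isAmple {d : ℕ} (hd : 0 < d) (s : Finset A) (hs : ∀ f ∈ s, f ∈ 𝒜 d)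
    (hcov : ∀ x : Proj 𝒜, ∃ f ∈ s, x ∈ Proj.basicOpen 𝒜 f) : CohB1.IsAmple (GrTwist.twist 𝒜 (d : ℤ)) := by
  have hcov' : ∀ x : Proj 𝒜, ∃ f ∈ 𝒜 d, x ∈ Proj.basicOpen 𝒜 f := fun x =>
    let ⟨f, hf, hx⟩ := hcov x
    ⟨f, hs f hf, hx⟩
  have hL := twist_isInvertible_self 𝒜 hcov'
  haveI : CompactSpace (Proj 𝒜) := by
    refine ⟨?_⟩
    have h : (⊤ : (Proj 𝒜).Opens) = ⨆ f : (s : Set A), Proj.basicOpen 𝒜 (f : A) :=
      (eq_top_iff.mpr fun x _ => by
        obtain ⟨f, hf, hx⟩ := hcov x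
        exact Opens.mem_iSup.mpr ⟨⟨f, hf⟩, hx⟩).symm
    rw [← TopologicalSpace.Opens.coe_top (α := Proj 𝒜), h, TopologicalSpace.Opens.coe_iSup]
    exact isCompact_iUnion fun f => (Proj.isAffineOpen_basicOpen 𝒜 f.1 (hs f.1 f.2) hd).isCompact
  refine (AmpleThLib.isAmple_iff (hL := hL)).mpr ⟨inferInstance, fun x => ?_⟩
  obtain ⟨f, hf, hx⟩ := hcov x
  refine ⟨1, Proj.basicOpen 𝒜 f, one_pos, ⟨AmpleThLib.pS (show Γ(GrTwist.twist 𝒜 (d : ℤ), ⊤) from GrTwist.globalOf 𝒜 ⟨f, hs f hf⟩) 1, ?_⟩, hx,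
    Proj.isAffineOpen_basicOpen 𝒜 f (hs f hf) hd⟩
  exact (AmpleThLib.genSet_pS hL _ one_pos).trans (genSet_globalOf 𝒜 hL hcov' ⟨f, hs f hf⟩)

/-- degree one generation: the basic opens of any generators of the degree-one part cover -/
theorem exists_basicOpen_of_genDegOne
    (hgen : Subring.closure ((𝒜 0 : Set A) ∪ (𝒜 1 : Set A)) = ⊤) (x : Proj 𝒜) :
    ∃ f ∈ 𝒜 1, x ∈ Proj.basicOpen 𝒜 f := by
  by_contra! H
  have hJ : Ideal.span (𝒜 1 : Set A) ≤ x.asHomogeneousIdeal.toIdeal :=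
    Ideal.span_le.mpr fun f hf => not_not.mp (H f hf)
  refine x.not_irrelevant_le ((HomogeneousIdeal.irrelevant_le _).mpr fun i hi a ha => hJ ?_)
  have key : ∀ a : A, a - GradedRing.projZeroRingHom 𝒜 a ∈ Ideal.span (𝒜 1 : Set A) := by
    intro a
    have ha : a ∈ Subring.closure ((𝒜 0 : Set A) ∪ (𝒜 1 : Set A)) := by rw [hgen]; trivial
    induction ha using Subring.closure_induction with
    | mem b hb =>
      rcases hb with hb | hb
      · rw [GradedRing.projZeroRingHom_apply, DirectSum.decompose_of_mem_same 𝒜 hb, sub_self]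
        exact zero_mem _
      · rw [GradedRing.projZeroRingHom_apply, DirectSum.decompose_of_mem_ne 𝒜 hb one_ne_zero, sub_zero]
        exact Ideal.subset_span hb
    | zero => rw [map_zero, sub_zero]; exact zero_mem _
    | one => rw [map_one, sub_self]; exact zero_mem _
    | add b c _ _ h1 h2 => rw [map_add, add_sub_add_comm]; exact add_mem h1 h2
    | neg b _ h1 => rw [map_neg, ← neg_sub']; exact neg_mem h1
    | mul b c _ _ h1 h2 =>
      rw [map_mul, show b * c - GradedRing.projZeroRingHom 𝒜 b * GradedRing.projZeroRingHom 𝒜 c =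
        (b - GradedRing.projZeroRingHom 𝒜 b) * c +
          GradedRing.projZeroRingHom 𝒜 b * (c - GradedRing.projZeroRingHom 𝒜 c) by ring]
      exact add_mem (Ideal.mul_mem_right _ _ h1) (Ideal.mul_mem_left _ _ h2)
  have h := key a
  rwa [GradedRing.projZeroRingHom_apply, DirectSum.decompose_of_mem_ne 𝒜 ha hi.ne', sub_zero] at h

end GrTwistLib
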